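import Mathlib
import Cfsg.Agent.Helper58.Marggraf
import Cfsg.Agent.Helper60.Marg.Defs

/-!
# Pieces (Q2), (Q4a), (Q4b) for S3620 (Marggraf, owner helper60): translates of a block
-/

set_option autoImplicit false

namespace Cfsg.Agent.Helper32.Marg

open MulAction Cfsg.Agent.Helper58 Cfsg.Agent.Helper60.Marg
open scoped Pointwise

variable {G : Type*} [Group G] {Ω : Type*} [MulAction G Ω]

/-- two translates of a block with a common point are equal -/
theorem orbit_eq_of_mem {B : Set Ω} (hB : IsBlock G B) (C D : orbit G B) {x : Ω}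
    (hxC : x ∈ (C : Set Ω)) (hxD : x ∈ (D : Set Ω)) : C = D := by
  obtain ⟨g, hg⟩ := C.2
  obtain ⟨g', hg'⟩ := D.2
  apply Subtype.ext
  by_contra hne
  have hne' : g • B ≠ g' • B := by
    intro h
    apply hne
    rw [← hg, ← hg']
    exact h
  have hdis := hB hne'
  have h1 : x ∈ g • B := by
    have : (g • B : Set Ω) = (C : Set Ω) := hg
    rw [this]; exact hxC
  have h2 : x ∈ g' • B := by
    have : (g' • B : Set Ω) = (D : Set Ω) := hg'
    rw [this]; exact hxD
  exact Set.disjoint_left.1 hdis h1 h2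

/-- a translate of a nonempty block is nonempty -/
theorem orbit_nonempty {B : Set Ω} (hBne : B.Nonempty) (C : orbit G B) :
    (C : Set Ω).Nonempty := by
  obtain ⟨g, hg⟩ := C.2
  have : (g • B : Set Ω) = (C : Set Ω) := hg
  rw [← this]
  exact hBne.smul_set

/-- if `g` maps a point of the translate `C` into the translate `D`, then `g • C = D` -/
theorem smul_orbit_eq_of_mem {B : Set Ω} (hB : IsBlock G B) (C D : orbit G B) (g : G) {x : Ω}
    (hxC : x ∈ (C : Set Ω)) (hxD : g • x ∈ (D : Set Ω)) : g • C = D := by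
  apply orbit_eq_of_mem hB (g • C) D (x := g • x) ?_ hxD
  rw [orbit.coe_smul]
  exact Set.smul_mem_smul_set hxC

/-- (Q2) quasiprimitivity passes to the set of translates of a block -/
theorem qp_orbit (hqp : ∀ N : Subgroup G, N.Normal → N ≠ ⊥ → IsPretransitive N Ω)
    [IsPretransitive G Ω] {B : Set Ω} (hB : IsBlock G B) (hBne : B.Nonempty) :
    ∀ N : Subgroup G, N.Normal → N ≠ ⊥ → IsPretransitive N (orbit G B) := by
  intro N hN hN1
  have := hqp N hN hN1
  refine ⟨fun C D => ?_⟩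
  obtain ⟨x, hx⟩ := orbit_nonempty hBne C
  obtain ⟨y, hy⟩ := orbit_nonempty hBne D
  obtain ⟨n, hn⟩ := MulAction.exists_smul_eq N x y
  refine ⟨n, ?_⟩
  have h1 : (n : G) • x = y := hn
  exact smul_orbit_eq_of_mem hB C D (n : G) hx (by rw [h1]; exact hy)

/-- (Q4a) no translate of the block meets both `Γ` and its complement -/
theorem block_dichotomy [IsPretransitive G Ω] {B : Set Ω} (hB : IsBlock G B) (hBne : B.Nonempty)
    (hfaith : ∀ g : G, (∀ C : orbit G B, g • C = C) → g = 1)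
    {Γ : Set Ω} (hJ : IsJ G Γ) (h1 : 1 < Γ.ncard) :
    ∀ C : orbit G B, (C : Set Ω) ⊆ Γ ∨ (C : Set Ω) ⊆ Γᶜ := by
  intro C
  by_contra hcon
  push Not at hcon
  obtain ⟨hnΓ, hnΓc⟩ := hcon
  -- a point of `C` outside `Γ` and a point of `C` inside `Γ`
  obtain ⟨z, hzC, hzΓ⟩ := Set.not_subset.1 hnΓ
  obtain ⟨x, hxC, hxΓ'⟩ := Set.not_subset.1 hnΓc
  have hxΓ : x ∈ Γ := by
    by_contra h
    exact hxΓ' h
  -- every element supported in `Γ` fixes `C`
  have hfixC : ∀ h : G, (∀ w ∉ Γ, h • w = w) → h • C = C := by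
    intro h hh
    exact smul_orbit_eq_of_mem hB C C h hzC (by rw [hh z hzΓ]; exact hzC)
  -- `Γ ⊆ C`
  have hΓC : Γ ⊆ (C : Set Ω) := by
    intro y hy
    obtain ⟨h, hh, hxy⟩ := hJ x hxΓ y hy
    have h2 := hfixC h hh
    have h3 : h • x ∈ ((h • C : orbit G B) : Set Ω) := by
      rw [orbit.coe_smul]
      exact Set.smul_mem_smul_set hxC
    rw [h2, hxy] at h3
    exact h3
  -- every element supported in `Γ` fixes every translate
  have hfixall : ∀ h : G, (∀ w ∉ Γ, h • w = w) → ∀ D : orbit G B, h • D = D := by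
    intro h hh D
    by_cases hDC : D = C
    · rw [hDC]; exact hfixC h hh
    · obtain ⟨w, hw⟩ := orbit_nonempty hBne D
      have hwΓ : w ∉ Γ := by
        intro hwΓ
        exact hDC (orbit_eq_of_mem hB D C hw (hΓC hwΓ))
      exact smul_orbit_eq_of_mem hB D D h hw (by rw [hh w hwΓ]; exact hw)
  -- two distinct points of `Γ`
  obtain ⟨u, v, hu, hv, huv⟩ := (Set.one_lt_ncard_iff (Set.finite_of_ncard_pos (by omega))).1 h1
  obtain ⟨h, hh, hhuv⟩ := hJ u hu v hv
  have h4 : h = 1 := hfaith h (hfixall h hh)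
  rw [h4, one_smul] at hhuv
  exact huv hhuv

/-- (Q4b) the blocks inside `Γ` form a Jordan set for the action on the translates -/
theorem isJ_orbit [IsPretransitive G Ω] {B : Set Ω} (hB : IsBlock G B) (hBne : B.Nonempty)
    {Γ : Set Ω} (hJ : IsJ G Γ)
    (hdich : ∀ C : orbit G B, (C : Set Ω) ⊆ Γ ∨ (C : Set Ω) ⊆ Γᶜ) :
    IsJ G {C : orbit G B | (C : Set Ω) ⊆ Γ} := by
  intro C hC D hD
  obtain ⟨x, hx⟩ := orbit_nonempty hBne C
  obtain ⟨y, hy⟩ := orbit_nonempty hBne D
  obtain ⟨g, hg, hgxy⟩ := hJ x (hC hx) y (hD hy)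
  refine ⟨g, ?_, smul_orbit_eq_of_mem hB C D g hx (by rw [hgxy]; exact hy)⟩
  intro E hE
  have hE' : ¬ (E : Set Ω) ⊆ Γ := hE
  have hEc : (E : Set Ω) ⊆ Γᶜ := (hdich E).resolve_left hE'
  obtain ⟨w, hw⟩ := orbit_nonempty hBne E
  exact smul_orbit_eq_of_mem hB E E g hw (by rw [hg w (hEc hw)]; exact hw)

end Cfsg.Agent.Helper32.Marg
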